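import Cfsg.Agent.H471.U33.He
import Cfsg.Agent.H715.Mon.Exact
import Cfsg.Agent.H436.B7

/-!
# S5525: the orders of the centralizers of the elements of order 7 of the Baby Monster (helper471)
-/

set_option autoImplicit false
set_option maxRecDepth 100000

namespace Cfsg.Agent.H471.U33

open Subgroup Cfsg Cfsg.Agent.H241.NH Cfsg.Agent.H241.Mon Cfsg.Agent.H630.NH
open Cfsg.Agent.MonsterX Cfsg.Agent.MonsterX.InstData Cfsg.Agent.MonsterX.MainPack
open Cfsg.Agent.LThreeMB (fr)
open Cfsg.Agent.MonsterX.Model Cfsg.Agent.MonsterX.MainBasic Cfsg.Agent.MonsterX.MainSimple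
open Cfsg.Agent.LThreeMB (XX mk exists_mk mk_eq_one mk_eq_mk Zx self)
open Cfsg.Agent.H715.Mon.Cent Cfsg.Agent.H715.Mon.Grp Cfsg.Agent.H979.CovLift

universe u

/-- **the centralizers of the elements of order 7 of the Baby Monster** -/
theorem card_seven {L : Type u} [Group L] (h : Spor.IsoB L) {u : L} (hu : orderOf u = 7) :
    Nat.card (centralizer ({u} : Set L)) = 564480 ∨ Nat.card (centralizer ({u} : Set L)) = 75264 := by
  have hfin := MFive.Row.finite_model
  have hp : Nat.Prime 7 := by norm_num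
  obtain ⟨t, ht, h2, ⟨e⟩⟩ := Cfsg.Agent.H436.B7.exists_cover h
  obtain ⟨x, hx, hx'⟩ := exists_lift h2 hp (by norm_num) (x := e.symm u) (by rw [MulEquiv.orderOf_eq, hu])
  have h1 := Cfsg.Agent.H180.TH.Baby.card_quot h2 e (x := x) (n := 7) (by decide)
    (by rw [← hx, pow_orderOf_eq_one])
  rw [hx', e.apply_symm_apply] at h1
  have hxt : (x : ↥InstData.M.G) * t = t * x := mem_centralizer_singleton_iff.1 x.2
  have hxo : orderOf (x : ↥InstData.M.G) = 7 := by rw [Subgroup.orderOf_coe, hx]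
  have hto : orderOf t = 2 := Cfsg.Agent.CpAutBFive.RowB.orderOf_t ht
  have hHe := Cfsg.Agent.H436.B7.isoHe ht hxo hxt
  have h3 := Cfsg.Agent.H715.Mon.Exact.card_inf (r := 7) (by decide) hxo
    (Cfsg.Agent.H715.Mon.Exact.mul_self_of hto) hxt.symm
  have h4 := Cfsg.Agent.H715.Mon.Exact.order_two hp (by norm_num) hxo hto hxt.symm
  rw [h1] at h3
  rcases card_he hHe h4 with h5 | h5
  · left
    rw [h5] at h3
    omega
  · right
    rw [h5] at h3
    omega

end Cfsg.Agent.H471.U33
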