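import Cfsg.Agent.H997.OutHe2
import Cfsg.Agent.BpSpor.HeThree

/-!
# S5525: the orders of the centralizers of the involutions of the Held group (helper471)
-/

set_option autoImplicit false

namespace Cfsg.Agent.H471.U33

open Subgroup Cfsg
open Cfsg.Agent.SporadicRecognition.HeldModel
open Cfsg.Agent.KFacts.He.Lv Cfsg.Agent.KFacts.He.TwoACent Cfsg.Agent.KFacts.He.TwoAPlane

universe u

theorem card_cent_a : Nat.card (centralizer ({gn .a} : Set Spor.He)) = 161280 := by
  have hfin := Cfsg.Agent.BpSpor.HeThree.finite_he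
  refine le_antisymm (Nat.le_of_dvd (by norm_num) Cfsg.Agent.H997.OutHe.card_cent_a) ?_
  have hL : L ≤ centralizer ({gn .a} : Set Spor.He) := fun x hx => mem_centralizer_singleton_iff.2 (L_comm_a hx)
  have hs : s ∈ centralizer ({gn .a} : Set Spor.He) := mem_centralizer_singleton_iff.2 s_comm_a
  have hsL : s ∉ L := by
    intro h
    have h1 : s * v = v * s := mem_V.1 v_mem_V s h
    have h2 := s_conj_v
    apply a_ne_one
    rw [← h2, h1]
    group
  obtain ⟨k, hk⟩ := card_dvd_of_le hL
  rw [CTwoTab.He.card_L] at hk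
  have hk1 : k ≠ 1 := by
    rintro rfl
    apply hsL
    have h3 : L = centralizer ({gn .a} : Set Spor.He) :=
      eq_of_le_of_card_ge hL (by rw [hk, CTwoTab.He.card_L])
    rw [h3]
    exact hs
  have hk0 : k ≠ 0 := by
    rintro rfl
    rw [mul_zero] at hk
    exact Nat.card_pos.ne' hk
  rw [hk]
  calc 161280 = 80640 * 2 := by norm_num
    _ ≤ 80640 * k := Nat.mul_le_mul_left _ (by omega)

theorem card_conj {G : Type*} [Group G] (g x : G) :
    Nat.card (centralizer ({g * x * g⁻¹} : Set G)) = Nat.card (centralizer ({x} : Set G)) := by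
  refine Nat.card_congr ⟨fun c => ⟨g⁻¹ * c * g, ?_⟩, fun c => ⟨g * c * g⁻¹, ?_⟩, ?_, ?_⟩
  · have h := mem_centralizer_singleton_iff.1 c.2
    rw [mem_centralizer_singleton_iff]
    calc g⁻¹ * c * g * x = g⁻¹ * (c * (g * x * g⁻¹)) * g := by group
      _ = g⁻¹ * ((g * x * g⁻¹) * c) * g := by rw [h]
      _ = x * (g⁻¹ * c * g) := by group
  · have h := mem_centralizer_singleton_iff.1 c.2
    rw [mem_centralizer_singleton_iff]
    calc g * c * g⁻¹ * (g * x * g⁻¹) = g * (c * x) * g⁻¹ := by group
      _ = g * (x * c) * g⁻¹ := by rw [h]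
      _ = g * x * g⁻¹ * (g * c * g⁻¹) := by group
  · intro c
    apply Subtype.ext
    show g * (g⁻¹ * c * g) * g⁻¹ = c
    group
  · intro c
    apply Subtype.ext
    show g⁻¹ * (g * c * g⁻¹) * g = c
    group

theorem card_equiv {G : Type*} [Group G] {F : Type*} [Group F] (e : F ≃* G) (x : F) :
    Nat.card (centralizer ({e x} : Set G)) = Nat.card (centralizer ({x} : Set F)) := by
  refine Nat.card_congr ⟨fun c => ⟨e.symm c, ?_⟩, fun c => ⟨e c, ?_⟩, ?_, ?_⟩
  · have h := mem_centralizer_singleton_iff.1 c.2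
    rw [mem_centralizer_singleton_iff]
    apply e.injective
    rw [map_mul, map_mul, e.apply_symm_apply, h]
  · have h := mem_centralizer_singleton_iff.1 c.2
    rw [mem_centralizer_singleton_iff, ← map_mul, ← map_mul, h]
  · intro c
    exact Subtype.ext (e.apply_symm_apply _)
  · intro c
    exact Subtype.ext (e.symm_apply_apply _)

/-- **the involutions of `He`** -/
theorem card_he {F : Type u} [Group F] (h : Spor.IsoHe F) {t : F} (ht : orderOf t = 2) :
    Nat.card (centralizer ({t} : Set F)) = 161280 ∨ Nat.card (centralizer ({t} : Set F)) = 21504 := by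
  obtain ⟨e⟩ := h
  rw [← card_equiv e]
  have h2 : orderOf (e t) = 2 := by rw [MulEquiv.orderOf_eq, ht]
  have htt : e t * e t = 1 := by rw [← pow_two, ← h2, pow_orderOf_eq_one]
  have h1 : e t ≠ 1 := by
    intro h
    rw [h, orderOf_one] at h2
    omega
  rcases Cfsg.Agent.BpSpor.HeThree.classes htt h1 with h | h
  · obtain ⟨g, hg⟩ := isConj_iff.1 h
    right
    rw [← hg, card_conj]
    exact KFacts.He.Classes.card_centralizer
  · obtain ⟨g, hg⟩ := isConj_iff.1 h
    left
    rw [← hg, card_conj]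
    exact card_cent_a

end Cfsg.Agent.H471.U33
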